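import Cfsg.Agent.Lib.Spor.Srg77.Lines
import Cfsg.Agent.Lib.Spor.SteinerSRG
import Cfsg.Agent.Lib.Spor.HSGraph
import Cfsg.Agent.S0410

/-!
The cocliques of 21 members of a graph with the parameters (77, 16, 0, 4) are the points of a system S(3,6,22) whose
block graph is the given graph.
-/

set_option autoImplicit false
set_option linter.unusedSectionVars false

namespace Cfsg.Agent.Spor.Srg77

open Finset

variable {V : Type*} [Fintype V] [DecidableEq V] {G : SimpleGraph V} [DecidableRel G.Adj]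

open scoped _root_.Classical in
/-- the cocliques of 21 members -/
noncomputable def pts (G : SimpleGraph V) : Finset (Finset V) :=
  univ.filter fun C => C.card = 21 ∧ ∀ a ∈ C, ∀ b ∈ C, ¬ G.Adj a b

theorem mem_pts {C : Finset V} : C ∈ pts G ↔ C.card = 21 ∧ ∀ a ∈ C, ∀ b ∈ C, ¬ G.Adj a b := by simp [pts]

variable (h : Params G)
include h

theorem pts_non {C : Finset V} (hC : C ∈ pts G) {a b : V} (ha : a ∈ C) (hb : b ∈ C) (hne : a ≠ b) : Non G a b :=
  ⟨hne, (mem_pts.1 hC).2 a ha b hb⟩

theorem pts_closed {C : Finset V} (hC : C ∈ pts G) {v u : V} (hv : v ∈ C) (hu : u ∈ C) (hne : v ≠ u) :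
    line G v u ⊆ C ∧ ∀ z ∈ C, z ∉ line G v u → Tr1 G v u z :=
  coclique_closed h (mem_pts.1 hC).1 (mem_pts.1 hC).2 hv hu hne

/-- the coclique of three members with one common neighbour -/
noncomputable def star (G : SimpleGraph V) [DecidableRel G.Adj] (v u u' : V) : Finset V :=
  insert v ((line G u u').biUnion fun z => (line G v z).erase v)

theorem star_data {v u u' : V} (t : Tr1 G v u u') :
    v ∉ line G u u' ∧ (∀ z ∈ line G u u', Non G v z) ∧
      (∀ z ∈ line G u u', ∀ z' ∈ line G u u', z ≠ z' → Tr1 G v z z') := by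
  obtain ⟨hvu, hvu', huu', h1⟩ := t
  have hout : v ∉ line G u u' := fun hm => by
    have := (line_tr h huu' hm (left_mem u u') (right_mem u u') hvu.1 hvu'.1 huu'.1).2.2.2
    rw [this, card_empty] at h1
    exact absurd h1 (by norm_num)
  have hbase : ∀ z ∈ line G u u', z ≠ u → Tr1 G u z v := fun z hz hzu =>
    tr1_line h (Tr1.swap₂ (Tr1.swap₁ ⟨hvu, hvu', huu', h1⟩)) hz hzu
  refine ⟨hout, fun z hz => ?_, fun z hz z' hz' hne => ?_⟩
  · by_cases hzu : z = u
    · exact hzu ▸ hvu
    · exact (hbase z hz hzu).2.2.1.symm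
  · by_cases hzu : z = u
    · rw [hzu] at hne ⊢
      exact (hbase z' hz' hne.symm).swap₂.swap₁
    have hl : line G z u = line G u u' := line_eq h huu' hz (left_mem u u') hzu
    exact (tr1_line h (hbase z hz hzu).swap₁ (hl.symm ▸ hz') hne.symm).swap₂.swap₁

theorem star_card {v u u' : V} (t : Tr1 G v u u') : (star G v u u').card = 21 := by
  obtain ⟨hout, hnon, htr⟩ := star_data h t
  rw [star, card_insert_of_notMem (by simp), card_biUnion, sum_congr rfl fun z hz => show
    ((line G v z).erase v).card = 4 by rw [card_erase_of_mem (left_mem v z), card_line h (hnon z hz)],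
    sum_const, card_line h t.2.2.1, smul_eq_mul]
  intro z hz z' hz' hne
  rw [Function.onFun, disjoint_left]
  intro w hw hw'
  rw [mem_erase] at hw hw'
  have e1 := line_eq h (hnon z hz) (left_mem v z) hw.2 (Ne.symm hw.1)
  have e2 := line_eq h (hnon z' hz') (left_mem v z') hw'.2 (Ne.symm hw'.1)
  rw [e1] at e2
  have := line_tr h (hnon z hz) (left_mem v z) (right_mem v z) (e2 ▸ right_mem v z') (hnon z hz).1 (hnon z' hz').1 hne
  have h1 := (htr z hz z' hz' hne).2.2.2
  rw [this.2.2.2, card_empty] at h1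
  exact absurd h1 (by norm_num)

theorem star_mem {v u u' : V} (t : Tr1 G v u u') : star G v u u' ∈ pts G := by
  obtain ⟨hout, hnon, htr⟩ := star_data h t
  rw [mem_pts]
  refine ⟨star_card h t, ?_⟩
  have hmem : ∀ a ∈ star G v u u', a = v ∨ ∃ z ∈ line G u u', a ∈ line G v z ∧ a ≠ v := fun a ha => by
    rw [star, mem_insert, mem_biUnion] at ha
    exact ha.imp id fun ⟨z, hz, hw⟩ => ⟨z, hz, (mem_erase.1 hw).2, (mem_erase.1 hw).1⟩
  intro a ha b hb hab
  rcases hmem a ha with rfl | ⟨z, hz, haz, hav⟩ <;> rcases hmem b hb with rfl | ⟨z', hz', hbz, hbv⟩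
  · exact G.irrefl hab
  · exact (line_non h (hnon z' hz') (left_mem _ _) hbz (Ne.symm hbv)).2 hab
  · exact (line_non h (hnon z hz) (left_mem _ _) haz (Ne.symm hav)).2 hab.symm
  · by_cases hne : z = z'
    · subst hne
      exact (line_non h (hnon z hz) haz hbz (G.ne_of_adj hab)).2 hab
    · exact (tr1_line h (tr1_line h (htr z hz z' hz' hne) haz hav).swap₂ hbz hbv).2.2.1.2 hab.symm

theorem unique_pt {C : Finset V} (hC : C ∈ pts G) {v u u' : V} (t : Tr1 G v u u') (hv : v ∈ C) (hu : u ∈ C)
    (hu' : u' ∈ C) : C = star G v u u' := by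
  refine (eq_of_subset_of_card_le (fun a ha => ?_) (by rw [star_card h t, (mem_pts.1 hC).1])).symm
  rw [star, mem_insert, mem_biUnion] at ha
  rcases ha with rfl | ⟨z, hz, ha⟩
  · exact hv
  · have hzC : z ∈ C := (pts_closed h hC hu hu' t.2.2.1.1).1 hz
    exact (pts_closed h hC hv hzC ((star_data h t).2.1 z hz).1).1 (mem_erase.1 ha).2

theorem one_pt {v u u' : V} (t : Tr1 G v u u') :
    ((pts G).filter fun C => v ∈ C ∧ u ∈ C ∧ u' ∈ C).card = 1 := by
  rw [card_eq_one]
  refine ⟨star G v u u', eq_singleton_iff_unique_mem.2 ⟨mem_filter.2 ⟨star_mem h t, mem_insert_self _ _, ?_, ?_⟩,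
    fun C hC => ?_⟩⟩
  · exact mem_insert_of_mem (mem_biUnion.2 ⟨u, left_mem u u', mem_erase.2 ⟨t.1.1.symm, right_mem v u⟩⟩)
  · exact mem_insert_of_mem (mem_biUnion.2 ⟨u', right_mem u u', mem_erase.2 ⟨t.2.1.1.symm, right_mem v u'⟩⟩)
  · rw [mem_filter] at hC
    exact unique_pt h hC.1 t hC.2.1 hC.2.2.1 hC.2.2.2

open scoped _root_.Classical in
theorem card_tr1 {v u : V} (hvu : Non G v u) : (univ.filter fun w => Tr1 G v u w).card = 32 := by
  obtain ⟨R, hR⟩ : ∃ R, R = univ \ (insert v (insert u (nb G v ∪ nb G u))) := ⟨_, rfl⟩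
  obtain ⟨m1, m2⟩ := moments h hvu
  rw [← hR] at m1 m2
  have hS : (univ.filter fun w => Tr1 G v u w) = R.filter fun w => (com G v u ∩ nb G w).card = 1 := by
    ext w
    rw [mem_filter, mem_filter, hR, mem_rest, Tr1]
    exact ⟨fun t => ⟨⟨t.2.2.1, t.2.2.2.1⟩, t.2.2.2.2⟩, fun t => ⟨mem_univ _, hvu, t.1.1, t.1.2, t.2⟩⟩
  have key : ∀ w ∈ R, (if (com G v u ∩ nb G w).card = 1 then 1 else 0) + (com G v u ∩ nb G w).card ^ 2 =
      2 * (com G v u ∩ nb G w).card := by
    intro w hw
    rw [hR, mem_rest] at hw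
    have := le_two h hvu hw.1 hw.2
    generalize (com G v u ∩ nb G w).card = i at this
    interval_cases i <;> rfl
  have := sum_congr rfl key
  rw [sum_add_distrib, ← card_filter, ← mul_sum, m1, m2, ← hS] at this
  omega

theorem pts_adj {v u : V} (a : G.Adj v u) : ((pts G).filter fun C => v ∈ C ∧ u ∈ C).card = 0 :=
  card_eq_zero.2 (filter_eq_empty_iff.2 fun C hC e => (mem_pts.1 hC).2 v e.1 u e.2 a)

theorem pts_pair {v u : V} (hvu : Non G v u) : ((pts G).filter fun C => v ∈ C ∧ u ∈ C).card = 2 := by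
  classical
  have hc : ∀ C ∈ (pts G).filter (fun C => v ∈ C ∧ u ∈ C),
      (C ∩ univ.filter fun w => Tr1 G v u w).card = 16 := by
    intro C hC
    rw [mem_filter] at hC
    obtain ⟨hC, hv, hu⟩ := hC
    obtain ⟨hsub, hT⟩ := pts_closed h hC hv hu hvu.1
    have e : (C ∩ univ.filter fun w => Tr1 G v u w) = C \ line G v u := by
      ext z
      simp only [mem_inter, mem_filter, mem_univ, true_and, mem_sdiff]
      refine ⟨fun q => ⟨q.1, fun hl => ?_⟩, fun q => ⟨q.1, hT z q.1 q.2⟩⟩
      obtain ⟨-, nvz, nuz, h1⟩ := q.2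
      rw [(line_tr h hvu (left_mem v u) (right_mem v u) hl hvu.1 nvz.1 nuz.1).2.2.2, card_empty] at h1
      exact absurd h1 (by norm_num)
    rw [e, card_sdiff_of_subset hsub, (mem_pts.1 hC).1, card_line h hvu]
  have h1 : ∑ C ∈ (pts G).filter (fun C => v ∈ C ∧ u ∈ C), (C ∩ univ.filter fun w => Tr1 G v u w).card = 32 := by
    have e : ∀ C : Finset V, (C ∩ univ.filter fun w => Tr1 G v u w).card =
        ∑ w ∈ univ.filter (fun w => Tr1 G v u w), if w ∈ C then 1 else 0 := fun C => by
      rw [← card_filter]; congr 1; ext w; simp [and_comm]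
    simp only [e]
    rw [sum_comm]
    refine (sum_congr rfl fun w hw => ?_).trans ((card_eq_sum_ones _).symm.trans (card_tr1 h hvu))
    rw [← card_filter, filter_filter]
    simpa only [and_assoc] using one_pt h (mem_filter.1 hw).2
  rw [sum_congr rfl hc, sum_const, smul_eq_mul] at h1
  omega

theorem pts_at (v : V) : ((pts G).filter fun C => v ∈ C).card = 6 := by
  classical
  obtain ⟨F, hF⟩ : ∃ F, F = (univ.erase v).filter fun u => ¬ G.Adj v u := ⟨_, rfl⟩
  have hF60 : F.card = 60 := by
    have := card_filter_add_card_filter_not (s := (univ : Finset V).erase v) (G.Adj v)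
    rw [card_erase_of_mem (mem_univ v), card_univ, h.card,
      show ((univ : Finset V).erase v).filter (G.Adj v) = nb G v by
        ext x; simp only [mem_filter, mem_erase, mem_univ, and_true, mem_nb]
        exact ⟨fun q => q.2, fun q => ⟨(G.ne_of_adj q).symm, q⟩⟩, h.deg, ← hF] at this
    omega
  have hc : ∀ C ∈ (pts G).filter (fun C => v ∈ C), (C ∩ F).card = 20 := by
    intro C hC
    rw [mem_filter] at hC
    have e : C ∩ F = C.erase v := by
      ext u
      simp only [hF, mem_inter, mem_filter, mem_erase, mem_univ, and_true]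
      exact ⟨fun q => ⟨q.2.1, q.1⟩, fun q => ⟨q.2, q.1, (mem_pts.1 hC.1).2 v hC.2 u q.2⟩⟩
    rw [e, card_erase_of_mem hC.2, (mem_pts.1 hC.1).1]
  have h1 : ∑ C ∈ (pts G).filter (fun C => v ∈ C), (C ∩ F).card = 120 := by
    have e : ∀ C : Finset V, (C ∩ F).card = ∑ u ∈ F, if u ∈ C then 1 else 0 := fun C => by
      rw [← card_filter]; congr 1; ext w; simp [and_comm]
    simp only [e]
    rw [sum_comm, sum_congr rfl fun u hu => show (∑ C ∈ (pts G).filter (fun C => v ∈ C), if u ∈ C then 1 else 0) = 2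
      from ?_, sum_const, hF60, smul_eq_mul]
    rw [← card_filter, filter_filter]
    rw [hF, mem_filter, mem_erase] at hu
    exact pts_pair h ⟨hu.1.1.symm, hu.2⟩
  rw [sum_congr rfl hc, sum_const, smul_eq_mul] at h1
  omega

theorem card_pts : (pts G).card = 22 := by
  classical
  have h1 : ∑ C ∈ pts G, C.card = 462 := by
    have e : ∀ C : Finset V, C.card = ∑ v, if v ∈ C then 1 else 0 := fun C => by
      rw [← card_filter]; congr 1; ext w; simp
    simp only [e]
    rw [sum_comm, sum_congr rfl fun v _ => by rw [← card_filter, pts_at h v], sum_const, card_univ, h.card,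
      smul_eq_mul]
  rw [sum_congr rfl fun C hC => (mem_pts.1 hC).1, sum_const, smul_eq_mul] at h1
  omega

/-- the block of a member -/
noncomputable def blk (G : SimpleGraph V) (v : V) : Finset ↥(pts G) := univ.filter fun C => v ∈ (C : Finset V)

omit h in
theorem card_blk_inter (v u : V) : (blk G v ∩ blk G u).card = ((pts G).filter fun C => v ∈ C ∧ u ∈ C).card := by
  rw [← card_map (Function.Embedding.subtype _)]
  congr 1
  ext C
  simp only [mem_map, Function.Embedding.coe_subtype, blk, mem_inter, mem_filter, mem_univ, true_and]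
  exact ⟨fun ⟨D, hD, e⟩ => e ▸ ⟨D.2, hD⟩, fun q => ⟨⟨C, q.1⟩, q.2, rfl⟩⟩

theorem card_blk (v : V) : (blk G v).card = 6 := by
  rw [← inter_self (blk G v), card_blk_inter, ← pts_at h v]
  simp

/-- the graph is the block graph of a system S(3,6,22) -/
theorem exists_system : ∃ B : Set (Finset ↥(pts G)), Cfsg.IsSteinerSystem 3 6 B ∧
    Nonempty (G ≃g Cfsg.blockGraph B) := by
  classical
  have meet : ∀ {b c : V}, b ≠ c → (blk G b ∩ blk G c).card ≤ 2 := fun {b c} hne => by
    rw [card_blk_inter]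
    rcases em (G.Adj b c) with a | a
    · rw [pts_adj h a]; norm_num
    · rw [pts_pair h ⟨hne, a⟩]
  have hinj : Function.Injective (blk G) := fun b c e => by
    by_contra hne
    have := meet hne
    rw [← e, inter_self, card_blk h] at this
    omega
  have hone : ∀ {s : Finset ↥(pts G)}, s.card = 3 → ∀ {b c}, s ⊆ blk G b → s ⊆ blk G c → b = c := by
    intro s hs b c sb sc
    by_contra hne
    have := (card_le_card (subset_inter sb sc)).trans (meet hne)
    omega
  have hU : (univ.biUnion fun v => (blk G v).powersetCard 3) = (univ : Finset ↥(pts G)).powersetCard 3 := by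
    refine eq_of_subset_of_card_le (fun t ht => ?_) ?_
    · obtain ⟨v, -, ht⟩ := mem_biUnion.1 ht
      rw [mem_powersetCard] at ht ⊢
      exact ⟨subset_univ _, ht.2⟩
    · rw [card_powersetCard, card_univ, Fintype.card_coe, card_pts h, card_biUnion]
      · rw [sum_congr rfl (fun v _ => by rw [card_powersetCard, card_blk h v]), sum_const, card_univ, h.card]
        decide
      · intro b _ c _ hne
        rw [Function.onFun, disjoint_left]
        intro t tb tc
        rw [mem_powersetCard] at tb tc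
        exact hne (hone tb.2 tb.1 tc.1)
  have hst : Cfsg.IsSteinerSystem 3 6 (Set.range (blk G)) := by
    refine ⟨by rintro b ⟨v, rfl⟩; exact card_blk h v, fun s hs => ?_⟩
    have : s ∈ (univ.biUnion fun v => (blk G v).powersetCard 3) := by
      rw [hU, mem_powersetCard]; exact ⟨subset_univ _, hs⟩
    obtain ⟨v, -, hv⟩ := mem_biUnion.1 this
    rw [mem_powersetCard] at hv
    refine ⟨blk G v, ⟨⟨v, rfl⟩, hv.1⟩, ?_⟩
    rintro b ⟨⟨w, rfl⟩, hw⟩
    rw [hone hs hw hv.1]
  refine ⟨Set.range (blk G), hst, ⟨⟨Equiv.ofInjective _ hinj, ?_⟩⟩⟩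
  intro v w
  rw [Spor.Steiner.blockGraph_adj (fun b hb => card_pos.1 (by rw [hst.1 b hb]; norm_num))]
  show Disjoint (blk G v) (blk G w) ↔ G.Adj v w
  rw [disjoint_iff_inter_eq_empty, ← card_eq_zero, card_blk_inter]
  refine ⟨fun e => ?_, fun a => pts_adj h a⟩
  by_contra hna
  by_cases hvw : v = w
  · subst hvw
    simp only [and_self, pts_at h v] at e
    exact absurd e (by norm_num)
  · rw [pts_pair h ⟨hvw, hna⟩] at e
    exact absurd e (by norm_num)

omit h in
/-- isomorphic systems have isomorphic block graphs -/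
theorem blockGraph_iso {α β : Type*} [DecidableEq α] [DecidableEq β] {B : Set (Finset α)} {B' : Set (Finset β)}
    (hB : ∀ b ∈ B, b.Nonempty) (e : α ≃ β) (he : (fun b : Finset α => b.image e) '' B = B') :
    Nonempty (Cfsg.blockGraph B ≃g Cfsg.blockGraph B') := by
  subst he
  have hinj : Function.Injective fun b : Finset α => b.image e := Finset.image_injective e.injective
  refine ⟨⟨Equiv.Set.imageOfInjOn _ B hinj.injOn, ?_⟩⟩
  intro v w
  rw [Spor.Steiner.blockGraph_adj hB, Spor.Steiner.blockGraph_adj (fun b hb => by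
    obtain ⟨a, ha, rfl⟩ := hb
    exact (hB a ha).image _)]
  exact Finset.disjoint_image e.injective

/-- there is only one such graph -/
theorem exists_model_iso :
    Nonempty (G ≃g Cfsg.blockGraph (HSGraph.model : Set (Finset (Fin 22)))) := by
  classical
  obtain ⟨B, hB, ⟨φ⟩⟩ := exists_system h
  obtain ⟨e, he⟩ := Cfsg.Agent.S0410.result (by rw [Fintype.card_coe, card_pts h]) (Fintype.card_fin 22) hB
    HSGraph.model_steiner
  obtain ⟨ψ⟩ := blockGraph_iso (fun b hb => card_pos.1 (by rw [hB.1 b hb]; norm_num)) e he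
  exact ⟨φ.trans ψ⟩

end Cfsg.Agent.Spor.Srg77
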