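import Mathlib

/-!
Graphs with the parameters (77, 16, 0, 4): the quadratic form `22 I - 11 A + 2 J` is nonnegative, which excludes a
few small configurations.
-/

set_option autoImplicit false
set_option linter.unusedSectionVars false

namespace Cfsg.Agent.Spor.Srg77

open Finset

variable {V : Type*} [Fintype V] [DecidableEq V] {G : SimpleGraph V} [DecidableRel G.Adj]

/-- the neighbours -/
def nb (G : SimpleGraph V) [DecidableRel G.Adj] (v : V) : Finset V := univ.filter (G.Adj v)

theorem mem_nb {v w : V} : w ∈ nb G v ↔ G.Adj v w := by simp [nb]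

/-- distinct and not joined -/
def Non (G : SimpleGraph V) (v w : V) : Prop := v ≠ w ∧ ¬ G.Adj v w

theorem Non.symm {v w : V} (h : Non G v w) : Non G w v := ⟨h.1.symm, fun a => h.2 a.symm⟩

/-- common neighbours -/
def com (G : SimpleGraph V) [DecidableRel G.Adj] (v w : V) : Finset V := nb G v ∩ nb G w

theorem com_comm (v w : V) : com G v w = com G w v := Finset.inter_comm _ _

theorem mem_com {v w x : V} : x ∈ com G v w ↔ G.Adj v x ∧ G.Adj w x := by simp [com, mem_nb]

/-- the parameters -/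
structure Params (G : SimpleGraph V) [DecidableRel G.Adj] : Prop where
  card : Fintype.card V = 77
  deg : ∀ v, (nb G v).card = 16
  lam : ∀ v w, G.Adj v w → com G v w = ∅
  mu : ∀ v w, Non G v w → (com G v w).card = 4

theorem params_of_srg (h : G.IsSRGWith 77 16 0 4) : Params G := by
  have hc : ∀ v w, Fintype.card (G.commonNeighbors v w) = (com G v w).card := fun v w => by
    rw [← Set.toFinset_card]
    congr 1
    ext x
    simp [mem_com, SimpleGraph.mem_commonNeighbors]
  refine ⟨h.card, fun v => ?_, fun v w a => card_eq_zero.1 ((hc v w).symm.trans (h.of_adj v w a)),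
    fun v w a => (hc v w).symm.trans (h.of_not_adj a.1 a.2)⟩
  rw [← h.regular v, ← SimpleGraph.card_neighborFinset_eq_degree]
  congr 1
  ext x
  simp [nb]

variable (h : Params G)
include h

/-- two members of a set of neighbours are not joined -/
theorem Params.nadj {v x y : V} (hx : G.Adj v x) (hy : G.Adj v y) : ¬ G.Adj x y := fun a => by
  have := h.lam x y a
  exact notMem_empty v (this ▸ mem_com.2 ⟨hx.symm, hy.symm⟩)

theorem Params.non_nb {v x y : V} (hx : G.Adj v x) (hy : G.Adj v y) (hne : x ≠ y) : Non G x y :=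
  ⟨hne, h.nadj hx hy⟩

/-- the entries of the form -/
def m (G : SimpleGraph V) [DecidableRel G.Adj] (x y : V) : ℤ :=
  (if x = y then 22 else 0) + (if G.Adj x y then -11 else 0) + 2

omit h in
theorem m_comm (x y : V) : m G x y = m G y x := by
  simp only [m, eq_comm (a := x), SimpleGraph.adj_comm (G := G) x y]

omit h in
theorem m_adj {x y : V} (a : G.Adj x y) : m G x y = -9 := by simp [m, a, G.ne_of_adj a]

omit h in
theorem m_non {x y : V} (a : Non G x y) : m G x y = 2 := by simp [m, a.1, a.2]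

omit h in
theorem m_self (x : V) : m G x x = 24 := by simp [m]

theorem m_sq (x y : V) : ∑ z, m G x z * m G z y = 88 * m G x y := by
  have e : ∀ z, m G x z * m G z y =
      (if x = z then 22 * m G z y else 0) + (if z = y then (22 : ℤ) * ((if G.Adj x z then -11 else 0) + 2) else 0) +
        (121 * (if z ∈ com G x y then 1 else 0) + (-22) * (if z ∈ nb G x then 1 else 0) +
          (-22) * (if z ∈ nb G y then 1 else 0) + 4) := by
    intro z
    simp only [m, mem_com, mem_nb, SimpleGraph.adj_comm (G := G) z y]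
    split_ifs <;> first | (exfalso; simp_all; done) | ring
  simp only [sum_congr rfl (fun z _ => e z), sum_add_distrib, ← mul_sum, Finset.sum_ite_eq, Finset.sum_ite_eq',
    mem_univ, if_true, sum_boole, sum_const, card_univ, h.card]
  have f1 : ∀ v, (univ.filter fun z => z ∈ nb G v) = nb G v := fun v => by ext; simp
  have f2 : (univ.filter fun z => z ∈ com G x y) = com G x y := by ext; simp
  rw [f1, f1, f2, h.deg, h.deg]
  by_cases hxy : x = y
  · subst hxy
    have : (com G x x).card = 16 := by rw [com, inter_self, h.deg]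
    simp [m, this]
  · by_cases ha : G.Adj x y
    · simp [m, hxy, ha, h.lam x y ha]
    · simp [m, hxy, ha, h.mu x y ⟨hxy, ha⟩]

/-- the form is nonnegative -/
theorem nonneg (f : V → ℤ) : 0 ≤ ∑ x, ∑ y, f x * f y * m G x y := by
  have key : 88 * ∑ x, ∑ y, f x * f y * m G x y = ∑ z, (∑ x, f x * m G x z) ^ 2 := by
    calc 88 * ∑ x, ∑ y, f x * f y * m G x y
        = ∑ x, ∑ y, ∑ z, f x * m G x z * (f y * m G y z) := by
          rw [mul_sum]
          refine sum_congr rfl fun x _ => ?_
          rw [mul_sum]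
          refine sum_congr rfl fun y _ => ?_
          rw [show (88 : ℤ) * (f x * f y * m G x y) = f x * f y * (88 * m G x y) by ring, ← m_sq h x y, mul_sum]
          exact sum_congr rfl fun z _ => by rw [m_comm z y]; ring
      _ = ∑ z, ∑ x, ∑ y, f x * m G x z * (f y * m G y z) := by
          rw [sum_congr rfl fun x _ => sum_comm, sum_comm]
      _ = _ := by simp only [pow_two, sum_mul_sum]
  nlinarith [sum_nonneg (s := univ) fun z (_ : z ∈ (univ : Finset V)) => sq_nonneg (∑ x, f x * m G x z)]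

omit h in
/-- the bilinear form on two sets -/
def B (G : SimpleGraph V) [DecidableRel G.Adj] (X Y : Finset V) : ℤ := ∑ x ∈ X, ∑ y ∈ Y, m G x y

omit h in
theorem B_comm (X Y : Finset V) : B G X Y = B G Y X := by
  rw [B, sum_comm]
  exact sum_congr rfl fun y _ => sum_congr rfl fun x _ => m_comm x y

omit h in
theorem B_all {X Y : Finset V} (a : ∀ x ∈ X, ∀ y ∈ Y, G.Adj x y) : B G X Y = -9 * X.card * Y.card := by
  rw [B, sum_congr rfl fun x hx => sum_congr rfl fun y hy => m_adj (a x hx y hy)]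
  simp only [sum_const, smul_neg, nsmul_eq_mul]; ring

omit h in
theorem B_none {X Y : Finset V} (a : ∀ x ∈ X, ∀ y ∈ Y, Non G x y) : B G X Y = 2 * X.card * Y.card := by
  rw [B, sum_congr rfl fun x hx => sum_congr rfl fun y hy => m_non (a x hx y hy)]
  simp only [sum_const, nsmul_eq_mul]; ring

omit h in
theorem B_le {X Y : Finset V} (a : ∀ x ∈ X, ∀ y ∈ Y, x ≠ y) : B G X Y ≤ 2 * X.card * Y.card := by
  refine le_trans (sum_le_sum fun x hx => sum_le_sum (g := fun _ => (2 : ℤ)) fun y hy => ?_) (le_of_eq ?_)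
  · simp only [m, if_neg (a x hx y hy)]
    split_ifs <;> norm_num
  · simp only [sum_const, nsmul_eq_mul]; ring

omit h in
theorem B_self {X : Finset V} (a : ∀ x ∈ X, ∀ y ∈ X, ¬ G.Adj x y) : B G X X = X.card * (22 + 2 * X.card) := by
  have : ∀ x ∈ X, ∑ y ∈ X, m G x y = 22 + 2 * X.card := fun x hx => by
    rw [sum_congr rfl fun y hy => show m G x y = (if x = y then 22 else 0) + 2 by simp [m, a x hx y hy]]
    rw [sum_add_distrib, Finset.sum_ite_eq, if_pos hx, sum_const, nsmul_eq_mul]; ring
  rw [B, sum_congr rfl this, sum_const, nsmul_eq_mul]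

/-- a combination of sets has a nonnegative value -/
theorem nonneg_sets {n : ℕ} (c : Fin n → ℤ) (X : Fin n → Finset V) :
    0 ≤ ∑ i, ∑ j, c i * c j * B G (X i) (X j) := by
  have hf := nonneg h fun x => ∑ i, if x ∈ X i then c i else 0
  refine le_trans hf (le_of_eq ?_)
  simp only [sum_mul, mul_sum, B]
  rw [sum_congr rfl fun x _ => sum_comm, sum_comm]
  refine sum_congr rfl fun i _ => ?_
  rw [sum_congr rfl fun x _ => sum_comm, sum_comm]
  refine sum_congr rfl fun j _ => ?_
  simp only [ite_mul, mul_ite, zero_mul, mul_zero]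
  simp [Finset.sum_ite_mem, sum_comm (s := X i), mul_assoc]
  exact sum_congr rfl fun p _ => sum_congr rfl fun q _ => by rw [m_comm]; ring

/-! ### The excluded configurations -/

/-- no complete bipartite graph with parts of three and four members -/
theorem no_three_four {L R : Finset V} (hL : L.card = 3) (hR : R.card = 4) (a : ∀ x ∈ L, ∀ y ∈ R, G.Adj x y) :
    False := by
  obtain ⟨r, hr⟩ : R.Nonempty := card_pos.1 (by omega)
  obtain ⟨l, hl⟩ : L.Nonempty := card_pos.1 (by omega)
  have e1 := B_all a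
  have e2 := B_self fun x hx y hy => h.nadj (a x hx r hr).symm (a y hy r hr).symm
  have e3 := B_self fun x hx y hy => h.nadj (a l hl x hx) (a l hl y hy)
  have := nonneg_sets h ![5, 4] ![L, R]
  simp only [Fin.sum_univ_two, Matrix.cons_val_zero, Matrix.cons_val_one] at this
  rw [B_comm R L, e1, e2, e3, hL, hR] at this
  norm_num at this

/-- three pairwise non-joined members have at most two common neighbours -/
theorem no_three_three {x y z : V} (hxy : Non G x y) (hxz : Non G x z) (hyz : Non G y z) :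
    (com G x y ∩ nb G z).card ≤ 2 := by
  by_contra hlt
  obtain ⟨R, hRs, hR⟩ := exists_subset_card_eq (show 3 ≤ (com G x y ∩ nb G z).card by omega)
  have hm : ∀ r ∈ R, G.Adj x r ∧ G.Adj y r ∧ G.Adj z r := fun r hr => by
    have := hRs hr
    rw [mem_inter, mem_com, mem_nb] at this
    exact ⟨this.1.1, this.1.2, this.2⟩
  have extra : ∀ {p q s : V}, Non G p q → p ≠ s → q ≠ s → (∀ r ∈ R, G.Adj p r ∧ G.Adj q r ∧ G.Adj s r) →
      ∃ g, G.Adj p g ∧ G.Adj q g ∧ ¬ G.Adj s g ∧ g ∉ R := by
    intro p q s hpq hps hqs hall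
    obtain ⟨g, hg, hgR⟩ : ∃ g ∈ com G p q, g ∉ R :=
      exists_mem_notMem_of_card_lt_card (by rw [hR, h.mu p q hpq]; norm_num)
    refine ⟨g, (mem_com.1 hg).1, (mem_com.1 hg).2, fun a => ?_, hgR⟩
    refine no_three_four h (L := {p, q, s}) (R := insert g R)
      (card_eq_three.2 ⟨p, q, s, hpq.1, hps, hqs, rfl⟩) (by rw [card_insert_of_notMem hgR, hR]) ?_
    intro u hu w hw
    simp only [mem_insert, mem_singleton] at hu hw
    rcases hw with rfl | hw
    · rcases hu with rfl | rfl | rfl
      exacts [(mem_com.1 hg).1, (mem_com.1 hg).2, a]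
    · rcases hu with rfl | rfl | rfl
      exacts [(hall w hw).1, (hall w hw).2.1, (hall w hw).2.2]
  obtain ⟨g, gx, gy, gz, gR⟩ := extra hxy hxz.1 hyz.1 hm
  obtain ⟨k, kx, kz, ky, kR⟩ := extra hxz hxy.1 hyz.1.symm fun r hr => ⟨(hm r hr).1, (hm r hr).2.2, (hm r hr).2.1⟩
  have hgk : g ≠ k := fun e => gz (e ▸ kz)
  have one : ∀ u : V, ({u} : Finset V).card = 1 := card_singleton
  have := nonneg_sets h ![5, 5, 5, 5, 2, 2] ![{x}, {y}, {z}, R, {g}, {k}]
  simp only [Fin.sum_univ_six, Matrix.cons_val_zero, Matrix.cons_val_one, Matrix.cons_val] at this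
  have sxx : ∀ u : V, B G {u} {u} = 24 := fun u => by simp [B, m_self]
  have sadj : ∀ {u w : V}, G.Adj u w → B G {u} {w} = -9 := fun a => by simp [B, m_adj a]
  have snon : ∀ {u w : V}, Non G u w → B G {u} {w} = 2 := fun a => by simp [B, m_non a]
  have sR : B G R R = 84 := by
    rw [B_self fun p hp q hq => h.nadj (hm p hp).1 (hm q hq).1, hR]; norm_num
  have aR : ∀ {u : V}, (∀ r ∈ R, G.Adj u r) → B G {u} R = -27 := fun {u} a => by
    rw [B_all (by simpa using a), one, hR]; norm_num
  have nR : ∀ {u : V}, G.Adj x u → u ∉ R → B G {u} R = 6 := fun {u} a hu => by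
    rw [B_none (fun p hp r hr => by
      rw [mem_singleton] at hp; subst hp
      exact h.non_nb a (hm r hr).1 fun e => hu (e ▸ hr)), one, hR]; norm_num
  have gne : z ≠ g := fun e => hxz.2 (e ▸ gx)
  have kne : y ≠ k := fun e => hxy.2 (e ▸ kx)
  simp only [B_comm R {x}, B_comm R {y}, B_comm R {z}, B_comm R {g}, B_comm R {k}, sxx, sR, snon hxy, snon hxy.symm,
    snon hxz, snon hxz.symm, snon hyz, snon hyz.symm, aR fun r hr => (hm r hr).1, aR fun r hr => (hm r hr).2.1,
    aR fun r hr => (hm r hr).2.2, nR gx gR, nR kx kR, sadj gx, sadj gx.symm, sadj gy, sadj gy.symm, sadj kx,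
    sadj kx.symm, sadj kz, sadj kz.symm, snon (h.non_nb gx kx hgk), snon (h.non_nb gx kx hgk).symm,
    snon ⟨gne, gz⟩, snon (Non.symm ⟨gne, gz⟩), snon ⟨kne, ky⟩, snon (Non.symm ⟨kne, ky⟩)] at this
  norm_num at this

/-- the two configurations at a pair `v`, `u` with two further members `w`, `w'` -/
theorem not_joined {v u w w' : V} (hvu : Non G v u) (hvw : Non G v w) (hvw' : Non G v w') (huw : Non G u w)
    (huw' : Non G u w') (h1 : com G v u ∩ nb G w = ∅) (h2 : com G v u ∩ nb G w' = ∅) : ¬ G.Adj w w' := by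
  intro a
  have one : ∀ u : V, ({u} : Finset V).card = 1 := card_singleton
  have := nonneg_sets h ![-2, 2, 1, -1, 1] ![{u}, {w}, {w'}, com G v u, com G v w]
  simp only [Fin.sum_univ_five, Matrix.cons_val_zero, Matrix.cons_val_one, Matrix.cons_val] at this
  have out : ∀ {p q : V}, com G v u ∩ nb G p = ∅ → Non G v p → q ∈ com G v u → Non G p q := by
    intro p q hp hvp hq
    refine ⟨fun e => hvp.2 (e ▸ (mem_com.1 hq).1), fun a => ?_⟩
    exact notMem_empty q (hp ▸ mem_inter.2 ⟨hq, mem_nb.2 a⟩)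
  have sT : ∀ {p : V}, Non G v p → B G (com G v p) (com G v p) = 120 := fun {p} hp => by
    rw [B_self fun c hc d hd => h.nadj (mem_com.1 hc).1 (mem_com.1 hd).1, h.mu v p hp]; norm_num
  have p1 : B G {u} (com G v u) = -36 := by
    rw [B_all (fun c hc d hd => mem_singleton.1 hc ▸ (mem_com.1 hd).2), one, h.mu v u hvu]; norm_num
  have p2 : B G {u} (com G v w) = 8 := by
    rw [B_none (fun c hc d hd => ?_), one, h.mu v w hvw]; · norm_num
    rw [mem_singleton.1 hc]
    refine ⟨fun e => hvu.2 (e ▸ (mem_com.1 hd).1), fun ad => ?_⟩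
    exact notMem_empty d (h1 ▸ mem_inter.2 ⟨mem_com.2 ⟨(mem_com.1 hd).1, ad⟩, mem_nb.2 (mem_com.1 hd).2⟩)
  have p3 : B G {w} (com G v u) = 8 := by
    rw [B_none (fun c hc d hd => mem_singleton.1 hc ▸ out h1 hvw hd), one, h.mu v u hvu]; norm_num
  have p4 : B G {w} (com G v w) = -36 := by
    rw [B_all (fun c hc d hd => mem_singleton.1 hc ▸ (mem_com.1 hd).2), one, h.mu v w hvw]; norm_num
  have p5 : B G {w'} (com G v u) = 8 := by
    rw [B_none (fun c hc d hd => mem_singleton.1 hc ▸ out h2 hvw' hd), one, h.mu v u hvu]; norm_num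
  have p6 : B G {w'} (com G v w) = 8 := by
    rw [B_none (fun c hc d hd => ?_), one, h.mu v w hvw]; · norm_num
    rw [mem_singleton.1 hc]
    exact ⟨fun e => hvw'.2 (e ▸ (mem_com.1 hd).1), fun ad => h.nadj (mem_com.1 hd).2.symm ad.symm a⟩
  have p7 : B G (com G v u) (com G v w) = 32 := by
    rw [B_none (fun c hc d hd => ?_), h.mu v u hvu, h.mu v w hvw]; · norm_num
    refine h.non_nb (mem_com.1 hc).1 (mem_com.1 hd).1 fun e => notMem_empty c (h1 ▸ mem_inter.2 ⟨hc, mem_nb.2 ?_⟩)
    exact e ▸ (mem_com.1 hd).2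
  have sing : ∀ p q : V, B G {p} {q} = m G p q := fun p q => by simp [B]
  simp only [B_comm (com G v w) (com G v u), B_comm (com G v u) {u}, B_comm (com G v w) {u}, B_comm (com G v u) {w},
    B_comm (com G v w) {w}, B_comm (com G v u) {w'}, B_comm (com G v w) {w'}, p1, p2, p3, p4, p5, p6, p7, sT hvu,
    sT hvw, sing, m_self, m_adj a, m_adj a.symm, m_non huw, m_non huw.symm, m_non huw',
    m_non huw'.symm] at this
  norm_num at this

theorem no_common {v u w w' : V} (hvu : Non G v u) (hvw : Non G v w) (hvw' : Non G v w') (huw : Non G u w)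
    (huw' : Non G u w') (hww : Non G w w') (h1 : com G v u ∩ nb G w = ∅) (h2 : com G v u ∩ nb G w' = ∅) :
    com G v w ∩ nb G w' = ∅ := by
  rw [eq_empty_iff_forall_notMem]
  intro x hx
  rw [mem_inter, mem_nb] at hx
  obtain ⟨hx, xw'⟩ := hx
  obtain ⟨xv, xw⟩ := mem_com.1 hx
  obtain ⟨R, hRd⟩ : ∃ R, R = (com G v w).erase x := ⟨_, rfl⟩
  have hR : R.card = 3 := by rw [hRd, card_erase_of_mem hx, h.mu v w hvw]
  have mR : ∀ {d}, d ∈ R → d ≠ x ∧ d ∈ com G v w := fun hd => mem_erase.1 (hRd ▸ hd)
  have one : ∀ u : V, ({u} : Finset V).card = 1 := card_singleton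
  have := nonneg_sets h ![-1, -3, 3, 1, -2, 2, 1] ![{v}, {u}, {w}, {w'}, com G v u, {x}, R]
  simp only [Fin.sum_univ_seven, Matrix.cons_val_zero, Matrix.cons_val_one, Matrix.cons_val] at this
  have out : ∀ {p q : V}, com G v u ∩ nb G p = ∅ → Non G v p → q ∈ com G v u → Non G p q := by
    intro p q hp hvp hq
    refine ⟨fun e => hvp.2 (e ▸ (mem_com.1 hq).1), fun a => ?_⟩
    exact notMem_empty q (hp ▸ mem_inter.2 ⟨hq, mem_nb.2 a⟩)
  have outu : ∀ {d}, d ∈ com G v w → Non G u d := fun {d} hd => by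
    refine ⟨fun e => hvu.2 (e ▸ (mem_com.1 hd).1), fun ad => ?_⟩
    exact notMem_empty d (h1 ▸ mem_inter.2 ⟨mem_com.2 ⟨(mem_com.1 hd).1, ad⟩, mem_nb.2 (mem_com.1 hd).2⟩)
  have outT : ∀ {c d}, c ∈ com G v u → d ∈ com G v w → Non G c d := fun {c d} hc hd =>
    h.non_nb (mem_com.1 hc).1 (mem_com.1 hd).1 fun e => notMem_empty c (h1 ▸ mem_inter.2 ⟨hc, mem_nb.2
      (e ▸ (mem_com.1 hd).2)⟩)
  have T4 := h.mu v u hvu
  have sT : B G (com G v u) (com G v u) = 120 := by
    rw [B_self fun c hc d hd => h.nadj (mem_com.1 hc).1 (mem_com.1 hd).1, T4]; norm_num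
  have sR : B G R R = 84 := by
    rw [B_self fun c hc d hd => h.nadj (mem_com.1 (mR hc).2).1 (mem_com.1 (mR hd).2).1, hR]; norm_num
  have q1 : B G {v} (com G v u) = -36 := by
    rw [B_all (fun c hc d hd => mem_singleton.1 hc ▸ (mem_com.1 hd).1), one, T4]; norm_num
  have q2 : B G {u} (com G v u) = -36 := by
    rw [B_all (fun c hc d hd => mem_singleton.1 hc ▸ (mem_com.1 hd).2), one, T4]; norm_num
  have q3 : B G {w} (com G v u) = 8 := by
    rw [B_none (fun c hc d hd => mem_singleton.1 hc ▸ out h1 hvw hd), one, T4]; norm_num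
  have q4 : B G {w'} (com G v u) = 8 := by
    rw [B_none (fun c hc d hd => mem_singleton.1 hc ▸ out h2 hvw' hd), one, T4]; norm_num
  have q5 : B G {x} (com G v u) = 8 := by
    rw [B_none (fun c hc d hd => mem_singleton.1 hc ▸ (outT hd hx).symm), one, T4]; norm_num
  have q6 : B G {v} R = -27 := by
    rw [B_all (fun c hc d hd => mem_singleton.1 hc ▸ (mem_com.1 (mR hd).2).1), one, hR]; norm_num
  have q7 : B G {u} R = 6 := by
    rw [B_none (fun c hc d hd => mem_singleton.1 hc ▸ outu (mR hd).2), one, hR]; norm_num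
  have q8 : B G {w} R = -27 := by
    rw [B_all (fun c hc d hd => mem_singleton.1 hc ▸ (mem_com.1 (mR hd).2).2), one, hR]; norm_num
  have q9 : B G {w'} R ≤ 6 := by
    refine le_trans (B_le fun c hc d hd e => ?_) (by rw [one, hR]; norm_num)
    rw [mem_singleton.1 hc] at e
    exact hvw'.2 (e ▸ (mem_com.1 (mR hd).2).1)
  have q10 : B G {x} R = 6 := by
    rw [B_none (fun c hc d hd => mem_singleton.1 hc ▸
      h.non_nb xv (mem_com.1 (mR hd).2).1 (mR hd).1.symm), one, hR]
    norm_num
  have q11 : B G (com G v u) R = 24 := by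
    rw [B_none (fun c hc d hd => outT hc (mR hd).2), T4, hR]; norm_num
  simp only [B_comm R, B_comm (com G v u) {v}, B_comm (com G v u) {u}, B_comm (com G v u) {w},
    B_comm (com G v u) {w'}, B_comm (com G v u) {x}, sT, sR, q1, q2, q3, q4, q5, q6, q7, q8, q10, q11] at this
  have sing : ∀ p q : V, B G {p} {q} = m G p q := fun p q => by simp [B]
  simp only [sing, m_self, m_non hvu, m_non hvu.symm, m_non hvw, m_non hvw.symm, m_non hvw', m_non hvw'.symm,
    m_non huw, m_non huw.symm, m_non huw', m_non huw'.symm, m_non hww, m_non hww.symm, m_adj xv, m_adj xv.symm,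
    m_adj xw, m_adj xw.symm, m_adj xw', m_adj xw'.symm, m_non (outu hx), m_non (outu hx).symm] at this
  linarith

end Cfsg.Agent.Spor.Srg77
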