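import Cfsg.Agent.Lib.Spor.Srg77.Gram

/-!
Graphs with the parameters (77, 16, 0, 4): two non-joined members lie in one line of five, and the cocliques of 21
members contain the lines through their members.
-/

set_option autoImplicit false
set_option linter.unusedSectionVars false

namespace Cfsg.Agent.Spor.Srg77

open Finset

variable {V : Type*} [Fintype V] [DecidableEq V] {G : SimpleGraph V} [DecidableRel G.Adj]

/-- pairwise non-joined, without common neighbour -/
def Tr0 (G : SimpleGraph V) [DecidableRel G.Adj] (a b c : V) : Prop :=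
  Non G a b ∧ Non G a c ∧ Non G b c ∧ com G a b ∩ nb G c = ∅

/-- pairwise non-joined, with one common neighbour -/
def Tr1 (G : SimpleGraph V) [DecidableRel G.Adj] (a b c : V) : Prop :=
  Non G a b ∧ Non G a c ∧ Non G b c ∧ (com G a b ∩ nb G c).card = 1

theorem com_nb_swap (a b c : V) : com G a b ∩ nb G c = com G b a ∩ nb G c ∧
    com G a b ∩ nb G c = com G a c ∩ nb G b := by
  refine ⟨by rw [com_comm], ?_⟩
  rw [com, com, inter_right_comm]

theorem Tr0.swap₁ {a b c : V} (t : Tr0 G a b c) : Tr0 G b a c :=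
  ⟨t.1.symm, t.2.2.1, t.2.1, by rw [com_comm]; exact t.2.2.2⟩

theorem Tr0.swap₂ {a b c : V} (t : Tr0 G a b c) : Tr0 G a c b :=
  ⟨t.2.1, t.1, t.2.2.1.symm, by rw [← (com_nb_swap a b c).2]; exact t.2.2.2⟩

theorem Tr1.swap₁ {a b c : V} (t : Tr1 G a b c) : Tr1 G b a c :=
  ⟨t.1.symm, t.2.2.1, t.2.1, by rw [com_comm]; exact t.2.2.2⟩

theorem Tr1.swap₂ {a b c : V} (t : Tr1 G a b c) : Tr1 G a c b :=
  ⟨t.2.1, t.1, t.2.2.1.symm, by rw [← (com_nb_swap a b c).2]; exact t.2.2.2⟩

open scoped _root_.Classical in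
/-- the third members -/
noncomputable def thirds (G : SimpleGraph V) [DecidableRel G.Adj] (v u : V) : Finset V :=
  univ.filter fun w => Tr0 G v u w

/-- the line of two members -/
noncomputable def line (G : SimpleGraph V) [DecidableRel G.Adj] (v u : V) : Finset V :=
  insert v (insert u (thirds G v u))

theorem mem_thirds {v u w : V} : w ∈ thirds G v u ↔ Tr0 G v u w := by simp [thirds]

theorem mem_line {v u w : V} : w ∈ line G v u ↔ w = v ∨ w = u ∨ Tr0 G v u w := by
  simp [line, mem_thirds]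

theorem left_mem (v u : V) : v ∈ line G v u := mem_line.2 (Or.inl rfl)

theorem right_mem (v u : V) : u ∈ line G v u := mem_line.2 (Or.inr (Or.inl rfl))

variable (h : Params G)
include h

/-- the members joined to neither of two given ones -/
theorem card_rest {v u : V} (hvu : Non G v u) :
    (univ \ (insert v (insert u (nb G v ∪ nb G u)))).card = 47 := by
  have h1 : u ∉ nb G v ∪ nb G u := by simp [mem_nb, hvu.2]
  have h2 : v ∉ insert u (nb G v ∪ nb G u) := by
    simp [mem_nb, hvu.1, hvu.symm.2]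
  have h3 := card_union_add_card_inter (nb G v) (nb G u)
  rw [h.deg, h.deg, show nb G v ∩ nb G u = com G v u from rfl, h.mu v u hvu] at h3
  rw [card_sdiff_of_subset (subset_univ _), card_univ, h.card, card_insert_of_notMem h2, card_insert_of_notMem h1]
  omega

omit h in
theorem mem_rest {v u w : V} :
    w ∈ univ \ (insert v (insert u (nb G v ∪ nb G u))) ↔ Non G v w ∧ Non G u w := by
  simp [mem_nb, Non, eq_comm, and_comm, and_left_comm]
  tauto

/-- the number of common neighbours -/
theorem le_two {v u w : V} (hvu : Non G v u) (hvw : Non G v w) (huw : Non G u w) :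
    (com G v u ∩ nb G w).card ≤ 2 := no_three_three h hvu hvw huw

/-- first two moments -/
theorem moments {v u : V} (hvu : Non G v u) :
    ∑ w ∈ univ \ (insert v (insert u (nb G v ∪ nb G u))), (com G v u ∩ nb G w).card = 56 ∧
    ∑ w ∈ univ \ (insert v (insert u (nb G v ∪ nb G u))), (com G v u ∩ nb G w).card ^ 2 = 80 := by
  classical
  have zero : ∀ w ∈ nb G v ∪ nb G u, com G v u ∩ nb G w = ∅ := fun w hw => by
    rw [eq_empty_iff_forall_notMem]
    intro x hx
    rw [mem_inter, mem_com, mem_nb] at hx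
    rw [mem_union, mem_nb, mem_nb] at hw
    rcases hw with a | a
    · exact h.nadj hx.1.1 a hx.2.symm
    · exact h.nadj hx.1.2 a hx.2.symm
  have split : ∀ F : ℕ → ℕ, F 0 = 0 → ∑ w, F (com G v u ∩ nb G w).card =
      F 4 + F 4 + ∑ w ∈ univ \ (insert v (insert u (nb G v ∪ nb G u))), F (com G v u ∩ nb G w).card := by
    intro F hF
    rw [← sum_sdiff (subset_univ (insert v (insert u (nb G v ∪ nb G u)))), add_comm]
    congr 1
    rw [sum_insert (by simp [mem_nb, hvu.1, hvu.symm.2]),
      sum_insert (by simp [mem_nb, hvu.2]), sum_eq_zero (fun w hw => by rw [zero w hw, card_empty, hF]), add_zero]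
    have hv : com G v u ∩ nb G v = com G v u := inter_eq_left.2 inter_subset_left
    have hu : com G v u ∩ nb G u = com G v u := inter_eq_left.2 inter_subset_right
    rw [hv, hu, h.mu v u hvu]
  have cnt : ∀ w, (com G v u ∩ nb G w).card = ∑ x ∈ com G v u, if G.Adj w x then 1 else 0 := fun w => by
    rw [← card_filter]; congr 1; ext x; simp [mem_nb]
  have hcol : ∀ x, ∑ w, (if G.Adj w x then 1 else 0 : ℕ) = 16 := fun x => by
    rw [← card_filter, ← h.deg x]
    congr 1; ext w; simp [mem_nb, SimpleGraph.adj_comm]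
  have h1 : ∑ w, (com G v u ∩ nb G w).card = 64 := by
    simp only [cnt]
    rw [sum_comm, sum_congr rfl fun x _ => hcol x, sum_const, h.mu v u hvu, smul_eq_mul]
  have h2 : ∑ w, (com G v u ∩ nb G w).card ^ 2 = 112 := by
    simp only [cnt, pow_two, sum_mul_sum]
    rw [sum_comm]
    have inner : ∀ x ∈ com G v u, ∑ w, ∑ y ∈ com G v u, (if G.Adj w x then 1 else 0) * (if G.Adj w y then 1 else 0) =
        28 := by
      intro x hx
      rw [sum_comm, ← add_sum_erase _ _ hx]
      have e : ∀ y, ∑ w, (if G.Adj w x then 1 else 0) * (if G.Adj w y then 1 else 0 : ℕ) = (com G x y).card :=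
        fun y => by
          have e1 : ∀ w, (if G.Adj w x then 1 else 0) * (if G.Adj w y then 1 else 0 : ℕ) =
              if w ∈ com G x y then 1 else 0 := fun w => by
            simp only [mem_com, SimpleGraph.adj_comm (G := G) w]
            split_ifs <;> simp_all
          rw [sum_congr rfl fun w _ => e1 w, ← card_filter]
          congr 1; ext w; simp
      rw [e, sum_congr rfl fun y hy => by
        rw [e, h.mu x y (h.non_nb (mem_com.1 hx).1 (mem_com.1 (mem_erase.1 hy).2).1 (mem_erase.1 hy).1.symm)]]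
      rw [sum_const, card_erase_of_mem hx, h.mu v u hvu, show com G x x = nb G x from inter_self _, h.deg,
        smul_eq_mul]
    rw [sum_congr rfl inner, sum_const, h.mu v u hvu, smul_eq_mul]
  have s1 := split (fun a => a) rfl
  have s2 := split (fun a => a ^ 2) rfl
  omega

theorem card_thirds {v u : V} (hvu : Non G v u) : (thirds G v u).card = 3 := by
  classical
  obtain ⟨R, hR⟩ : ∃ R, R = univ \ (insert v (insert u (nb G v ∪ nb G u))) := ⟨_, rfl⟩
  obtain ⟨m1, m2⟩ := moments h hvu
  rw [← hR] at m1 m2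
  have hS : thirds G v u = R.filter fun w => (com G v u ∩ nb G w).card = 0 := by
    ext w
    rw [mem_thirds, mem_filter, hR, mem_rest, card_eq_zero, Tr0]
    exact ⟨fun t => ⟨⟨t.2.1, t.2.2.1⟩, t.2.2.2⟩, fun t => ⟨hvu, t.1.1, t.1.2, t.2⟩⟩
  have key : ∀ w ∈ R, 2 * (if (com G v u ∩ nb G w).card = 0 then 1 else 0) + 3 * (com G v u ∩ nb G w).card =
      (com G v u ∩ nb G w).card ^ 2 + 2 := by
    intro w hw
    rw [hR, mem_rest] at hw
    have := le_two h hvu hw.1 hw.2
    generalize (com G v u ∩ nb G w).card = i at this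
    interval_cases i <;> rfl
  have := sum_congr rfl key
  rw [sum_add_distrib, sum_add_distrib, ← mul_sum, ← mul_sum, ← card_filter, m1, m2, sum_const, hR,
    card_rest h hvu, ← hR, ← hS, smul_eq_mul] at this
  omega

theorem card_line {v u : V} (hvu : Non G v u) : (line G v u).card = 5 := by
  rw [line, card_insert_of_notMem, card_insert_of_notMem, card_thirds h hvu]
  · exact fun a => (mem_thirds.1 a).2.2.1.1 rfl
  · simp only [mem_insert, hvu.1, false_or, mem_thirds]
    exact fun a => a.2.1.1 rfl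

theorem thirds_tr {v u w w' : V} (hw : Tr0 G v u w) (hw' : Tr0 G v u w') (hne : w ≠ w') : Tr0 G v w w' := by
  obtain ⟨hvu, hvw, huw, e⟩ := hw
  obtain ⟨-, hvw', huw', e'⟩ := hw'
  have hn : Non G w w' := ⟨hne, not_joined h hvu hvw hvw' huw huw' e e'⟩
  exact ⟨hvw, hvw', hn, no_common h hvu hvw hvw' huw huw' hn e e'⟩

theorem line_tr {v u : V} (hvu : Non G v u) {a b c : V} (ha : a ∈ line G v u) (hb : b ∈ line G v u)
    (hc : c ∈ line G v u) (hab : a ≠ b) (hac : a ≠ c) (hbc : b ≠ c) : Tr0 G a b c := by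
  have vww : ∀ {w w'}, Tr0 G v u w → Tr0 G v u w' → w ≠ w' → Tr0 G v w w' := fun s t n => thirds_tr h s t n
  have uww : ∀ {w w'}, Tr0 G v u w → Tr0 G v u w' → w ≠ w' → Tr0 G u w w' := fun s t n =>
    thirds_tr h s.swap₁ t.swap₁ n
  rw [mem_line] at ha hb hc
  rcases ha with rfl | rfl | sa <;> rcases hb with rfl | rfl | sb <;> rcases hc with rfl | rfl | sc
  all_goals first | exact absurd rfl hab | exact absurd rfl hac | exact absurd rfl hbc | skip
  · exact sc
  · exact sb.swap₂
  · exact vww sb sc hbc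
  · exact sc.swap₁
  · exact sb.swap₁.swap₂
  · exact uww sb sc hbc
  · exact sa.swap₂.swap₁
  · exact (vww sa sc hac).swap₁
  · exact sa.swap₁.swap₂.swap₁
  · exact (uww sa sc hac).swap₁
  · exact (vww sa sb hab).swap₁.swap₂
  · exact (uww sa sb hab).swap₁.swap₂
  · exact thirds_tr h (vww sa sb hab).swap₁ (vww sa sc hac).swap₁ hbc

theorem line_eq {v u : V} (hvu : Non G v u) {a b : V} (ha : a ∈ line G v u) (hb : b ∈ line G v u) (hab : a ≠ b) :
    line G a b = line G v u := by
  have hn : Non G a b := by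
    obtain ⟨c, hc, hca, hcb⟩ : ∃ c ∈ line G v u, c ≠ a ∧ c ≠ b := by
      obtain ⟨c, hc, hn⟩ := exists_mem_notMem_of_card_lt_card (s := ({a, b} : Finset V)) (t := line G v u)
        (by rw [card_line h hvu, card_pair hab]; norm_num)
      simp only [mem_insert, mem_singleton, not_or] at hn
      exact ⟨c, hc, hn.1, hn.2⟩
    exact (line_tr h hvu ha hb hc hab hca.symm hcb.symm).1
  refine (eq_of_subset_of_card_le (fun c hc => ?_) (by rw [card_line h hvu, card_line h hn])).symm
  rw [mem_line]
  by_cases hca : c = a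
  · exact Or.inl hca
  by_cases hcb : c = b
  · exact Or.inr (Or.inl hcb)
  exact Or.inr (Or.inr (line_tr h hvu ha hb hc hab (Ne.symm hca) (Ne.symm hcb)))

theorem line_non {v u : V} (hvu : Non G v u) {a b : V} (ha : a ∈ line G v u) (hb : b ∈ line G v u) (hab : a ≠ b) :
    Non G a b := by
  obtain ⟨c, hc, hn⟩ := exists_mem_notMem_of_card_lt_card (s := ({a, b} : Finset V)) (t := line G v u)
    (by rw [card_line h hvu, card_pair hab]; norm_num)
  simp only [mem_insert, mem_singleton, not_or] at hn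
  exact (line_tr h hvu ha hb hc hab (Ne.symm hn.1) (Ne.symm hn.2)).1

/-- an outside member is joined to no or two members of a line -/
theorem line_join {v u : V} (hvu : Non G v u) (z : V) :
    (line G v u ∩ nb G z).card = 0 ∨ (line G v u ∩ nb G z).card = 2 := by
  classical
  have le : ∀ z, (line G v u ∩ nb G z).card ≤ 2 := fun z => by
    by_contra hlt
    obtain ⟨a, b, c, ha, hb, hc, hab, hac, hbc⟩ := two_lt_card_iff.1 (not_le.1 hlt)
    rw [mem_inter, mem_nb] at ha hb hc
    exact notMem_empty z ((line_tr h hvu ha.1 hb.1 hc.1 hab hac hbc).2.2.2 ▸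
      mem_inter.2 ⟨mem_com.2 ⟨ha.2.symm, hb.2.symm⟩, mem_nb.2 hc.2.symm⟩)
  have cnt : ∀ w, (line G v u ∩ nb G w).card = ∑ x ∈ line G v u, if G.Adj w x then 1 else 0 := fun w => by
    rw [← card_filter]; congr 1; ext x; simp [mem_nb]
  have h1 : ∑ w, (line G v u ∩ nb G w).card = 80 := by
    simp only [cnt]
    rw [sum_comm, sum_congr rfl fun x _ => show ∑ w, (if G.Adj w x then 1 else 0 : ℕ) = 16 from ?_, sum_const,
      card_line h hvu, smul_eq_mul]
    rw [← card_filter, ← h.deg x]
    congr 1; ext w; simp [mem_nb, SimpleGraph.adj_comm]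
  have h2 : ∑ w, (line G v u ∩ nb G w).card ^ 2 = 160 := by
    simp only [cnt, pow_two, sum_mul_sum]
    rw [sum_comm]
    have inner : ∀ x ∈ line G v u, ∑ w, ∑ y ∈ line G v u, (if G.Adj w x then 1 else 0) * (if G.Adj w y then 1 else 0) =
        32 := by
      intro x hx
      rw [sum_comm, ← add_sum_erase _ _ hx]
      have e : ∀ y, ∑ w, (if G.Adj w x then 1 else 0) * (if G.Adj w y then 1 else 0 : ℕ) = (com G x y).card :=
        fun y => by
          have e1 : ∀ w, (if G.Adj w x then 1 else 0) * (if G.Adj w y then 1 else 0 : ℕ) =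
              if w ∈ com G x y then 1 else 0 := fun w => by
            simp only [mem_com, SimpleGraph.adj_comm (G := G) w]
            split_ifs <;> simp_all
          rw [sum_congr rfl fun w _ => e1 w, ← card_filter]
          congr 1; ext w; simp
      rw [e, sum_congr rfl fun y hy => by
        rw [e, h.mu x y (line_non h hvu hx (mem_erase.1 hy).2 (mem_erase.1 hy).1.symm)]]
      rw [sum_const, card_erase_of_mem hx, card_line h hvu, show com G x x = nb G x from inter_self _, h.deg,
        smul_eq_mul]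
    rw [sum_congr rfl inner, sum_const, card_line h hvu, smul_eq_mul]
  have key : ∑ w, (line G v u ∩ nb G w).card * (2 - (line G v u ∩ nb G w).card) = 0 := by
    have e : ∀ w, (line G v u ∩ nb G w).card * (2 - (line G v u ∩ nb G w).card) + (line G v u ∩ nb G w).card ^ 2 =
        2 * (line G v u ∩ nb G w).card := fun w => by
      have := le w
      generalize (line G v u ∩ nb G w).card = i at this
      interval_cases i <;> rfl
    have := sum_congr rfl (fun w (_ : w ∈ (univ : Finset V)) => e w)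
    rw [sum_add_distrib, ← mul_sum, h1, h2] at this
    omega
  have := sum_eq_zero_iff.1 key z (mem_univ z)
  have := le z
  rcases Nat.mul_eq_zero.1 ‹_ * _ = 0› with e | e <;> omega

/-- the members of a line at a vertex share the common neighbours evenly -/
theorem line_sum {v u u' : V} (hvu : Non G v u) (hvu' : Non G v u') :
    ∑ a ∈ (line G v u).erase v, (com G v u' ∩ nb G a).card = 4 := by
  classical
  have cnt : ∀ a, (com G v u' ∩ nb G a).card = ∑ x ∈ com G v u', if G.Adj a x then 1 else 0 := fun a => by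
    rw [← card_filter]; congr 1; ext x; simp [mem_nb]
  simp only [cnt]
  rw [sum_comm, sum_congr rfl fun x hx => show ∑ a ∈ (line G v u).erase v, (if G.Adj a x then 1 else 0 : ℕ) = 1 from ?_,
    sum_const, h.mu v u' hvu', smul_eq_mul, mul_one]
  have hvx := (mem_com.1 hx).1
  have e : ((line G v u).erase v).filter (fun a => G.Adj a x) = (line G v u ∩ nb G x).erase v := by
    ext a; simp [mem_nb, SimpleGraph.adj_comm (G := G) a x, and_assoc]
  rw [← card_filter, e, card_erase_of_mem (mem_inter.2 ⟨left_mem v u, mem_nb.2 hvx.symm⟩)]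
  rcases line_join h hvu x with hk | hk
  · rw [card_eq_zero] at hk
    exact absurd (mem_inter.2 ⟨left_mem v u, mem_nb.2 hvx.symm⟩) (hk ▸ notMem_empty v)
  · rw [hk]

/-- one common neighbour spreads along lines -/
theorem tr1_line {v u u' a : V} (t : Tr1 G v u u') (ha : a ∈ line G v u) (hav : a ≠ v) : Tr1 G v a u' := by
  classical
  obtain ⟨hvu, hvu', huu', h1⟩ := t
  have hout : u' ∉ line G v u := fun hm => by
    have := (line_tr h hvu (left_mem v u) (right_mem v u) hm hvu.1 hvu'.1 huu'.1).2.2.2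
    rw [this, card_empty] at h1
    exact absurd h1 (by norm_num)
  obtain ⟨E, hE⟩ : ∃ E, E = (line G v u).erase v := ⟨_, rfl⟩
  have hsum := line_sum h hvu hvu'
  rw [← hE] at hsum
  have hu : u ∈ E := hE ▸ mem_erase.2 ⟨hvu.1.symm, right_mem v u⟩
  have hiu : (com G v u' ∩ nb G u).card = 1 := by rw [← (com_nb_swap v u u').2]; exact h1
  have hle : ∀ b ∈ E, ¬ G.Adj u' b → (com G v u' ∩ nb G b).card ≤ 2 := fun b hb hna => by
    rw [hE, mem_erase] at hb
    exact le_two h hvu' (line_non h hvu (left_mem v u) hb.2 (Ne.symm hb.1))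
      ⟨fun e => hout (e ▸ hb.2), hna⟩
  have hzero : ∀ b, G.Adj u' b → (com G v u' ∩ nb G b).card = 0 := fun b hb => card_eq_zero.2
    (eq_empty_iff_forall_notMem.2 fun x hx => by
      rw [mem_inter, mem_com, mem_nb] at hx
      exact h.nadj hx.1.2 hb hx.2.symm)
  have hE4 : E.card = 4 := by rw [hE, card_erase_of_mem (left_mem v u), card_line h hvu]
  have hnone : ∀ b ∈ E, ¬ G.Adj u' b := by
    rcases line_join h hvu u' with hk | hk
    · intro b hb a
      rw [card_eq_zero] at hk
      exact notMem_empty b (hk ▸ mem_inter.2 ⟨(mem_erase.1 (hE ▸ hb)).2, mem_nb.2 a⟩)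
    · exfalso
      have hsub : (line G v u ∩ nb G u') = E.filter (G.Adj u') := by
        ext b
        simp only [mem_inter, mem_nb, mem_filter, hE, mem_erase]
        exact ⟨fun q => ⟨⟨fun e => hvu'.2 (e ▸ q.2).symm, q.1⟩, q.2⟩, fun q => ⟨q.1.2, q.2⟩⟩
      rw [hsub] at hk
      have hc := card_filter_add_card_filter_not (s := E) (G.Adj u')
      rw [hk, hE4] at hc
      rw [← sum_filter_add_sum_filter_not E (G.Adj u'), sum_eq_zero fun b hb => hzero b (mem_filter.1 hb).2,
        zero_add, ← add_sum_erase _ _ (mem_filter.2 ⟨hu, huu'.symm.2⟩), hiu] at hsum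
      have hb := sum_le_card_nsmul ((E.filter fun b => ¬ G.Adj u' b).erase u)
        (fun b => (com G v u' ∩ nb G b).card) 2 fun b hb => by
          rw [mem_erase, mem_filter] at hb
          exact hle b hb.2.1 hb.2.2
      rw [card_erase_of_mem (mem_filter.2 ⟨hu, huu'.symm.2⟩), smul_eq_mul] at hb
      omega
  have hpos : ∀ b ∈ E, 1 ≤ (com G v u' ∩ nb G b).card := fun b hb => by
    refine Nat.one_le_iff_ne_zero.2 fun e => hout ?_
    have hb' := mem_erase.1 (hE ▸ hb)
    have hvb := line_non h hvu (left_mem v u) hb'.2 (Ne.symm hb'.1)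
    rw [card_eq_zero] at e
    rw [← line_eq h hvu (left_mem v u) hb'.2 (Ne.symm hb'.1), mem_line]
    exact Or.inr (Or.inr (Tr0.swap₂ ⟨hvu', hvb, ⟨fun e' => hout (e' ▸ hb'.2), hnone b hb⟩, e⟩))
  have ha' : a ∈ E := hE ▸ mem_erase.2 ⟨hav, ha⟩
  refine Tr1.swap₂ ⟨hvu', line_non h hvu (left_mem v u) ha (Ne.symm hav),
    ⟨fun e => hout (e ▸ ha), hnone a ha'⟩, ?_⟩
  have hall : ∀ b ∈ E, 1 = (com G v u' ∩ nb G b).card :=
    (sum_eq_sum_iff_of_le hpos).1 (by rw [hsum, sum_const, hE4, smul_eq_mul])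
  exact (hall a ha').symm

/-- every member outside a coclique of 21 is joined to six of its members -/
theorem coclique_six {C : Finset V} (hC : C.card = 21) (hco : ∀ a ∈ C, ∀ b ∈ C, ¬ G.Adj a b) {z : V} (hz : z ∉ C) :
    (C ∩ nb G z).card = 6 := by
  classical
  have zero : ∀ w ∈ C, (C ∩ nb G w).card = 0 := fun w hw => card_eq_zero.2
    (eq_empty_iff_forall_notMem.2 fun x hx => hco w hw x (mem_inter.1 hx).1 (mem_nb.1 (mem_inter.1 hx).2))
  have cnt : ∀ w, (C ∩ nb G w).card = ∑ x ∈ C, if G.Adj w x then 1 else 0 := fun w => by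
    rw [← card_filter]; congr 1; ext x; simp [mem_nb]
  have h1 : ∑ w, (C ∩ nb G w).card = 336 := by
    simp only [cnt]
    rw [sum_comm, sum_congr rfl fun x _ => show ∑ w, (if G.Adj w x then 1 else 0 : ℕ) = 16 from ?_, sum_const,
      hC, smul_eq_mul]
    rw [← card_filter, ← h.deg x]
    congr 1; ext w; simp [mem_nb, SimpleGraph.adj_comm]
  have h2 : ∑ w, (C ∩ nb G w).card ^ 2 = 2016 := by
    simp only [cnt, pow_two, sum_mul_sum]
    rw [sum_comm]
    have inner : ∀ x ∈ C, ∑ w, ∑ y ∈ C, (if G.Adj w x then 1 else 0) * (if G.Adj w y then 1 else 0) = 96 := by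
      intro x hx
      rw [sum_comm, ← add_sum_erase _ _ hx]
      have e : ∀ y, ∑ w, (if G.Adj w x then 1 else 0) * (if G.Adj w y then 1 else 0 : ℕ) = (com G x y).card :=
        fun y => by
          have e1 : ∀ w, (if G.Adj w x then 1 else 0) * (if G.Adj w y then 1 else 0 : ℕ) =
              if w ∈ com G x y then 1 else 0 := fun w => by
            simp only [mem_com, SimpleGraph.adj_comm (G := G) w]
            split_ifs <;> simp_all
          rw [sum_congr rfl fun w _ => e1 w, ← card_filter]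
          congr 1; ext w; simp
      rw [e, sum_congr rfl fun y hy => by
        rw [e, h.mu x y ⟨(mem_erase.1 hy).1.symm, hco x hx y (mem_erase.1 hy).2⟩]]
      rw [sum_const, card_erase_of_mem hx, hC, show com G x x = nb G x from inter_self _, h.deg, smul_eq_mul]
    rw [sum_congr rfl inner, sum_const, hC, smul_eq_mul]
  rw [← sum_add_sum_compl C, sum_eq_zero zero, zero_add] at h1
  rw [← sum_add_sum_compl C, sum_eq_zero (fun w hw => by rw [zero w hw]; rfl), zero_add] at h2
  have key : ∑ w ∈ Cᶜ, (((C ∩ nb G w).card : ℤ) - 6) ^ 2 = 0 := by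
    have e : ∀ w, (((C ∩ nb G w).card : ℤ) - 6) ^ 2 =
        (((C ∩ nb G w).card ^ 2 : ℕ) : ℤ) - 12 * ((C ∩ nb G w).card : ℤ) + 36 := fun w => by push_cast; ring
    rw [sum_congr rfl fun w _ => e w, sum_add_distrib, sum_sub_distrib, ← mul_sum, ← Nat.cast_sum, ← Nat.cast_sum,
      h1, h2, sum_const, card_compl, hC, h.card]
    norm_num
  have := (sum_eq_zero_iff_of_nonneg fun w _ => sq_nonneg _).1 key z (mem_compl.2 hz)
  have := pow_eq_zero_iff (n := 2) two_ne_zero |>.1 this
  omega

/-- a coclique of 21 contains the lines of its members, and no other pair of its members has two common neighbours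
at a member -/
theorem coclique_closed {C : Finset V} (hC : C.card = 21) (hco : ∀ a ∈ C, ∀ b ∈ C, ¬ G.Adj a b) {v u : V}
    (hv : v ∈ C) (hu : u ∈ C) (hne : v ≠ u) :
    line G v u ⊆ C ∧ ∀ z ∈ C, z ∉ line G v u → Tr1 G v u z := by
  classical
  have hvu : Non G v u := ⟨hne, hco v hv u hu⟩
  obtain ⟨R, hR⟩ : ∃ R, R = (C.erase v).erase u := ⟨_, rfl⟩
  have hR19 : R.card = 19 := by
    rw [hR, card_erase_of_mem (mem_erase.2 ⟨hne.symm, hu⟩), card_erase_of_mem hv, hC]
  have hsum : ∑ z ∈ R, (com G v u ∩ nb G z).card = 16 := by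
    have cnt : ∀ a, (com G v u ∩ nb G a).card = ∑ x ∈ com G v u, if G.Adj a x then 1 else 0 := fun a => by
      rw [← card_filter]; congr 1; ext x; simp [mem_nb]
    simp only [cnt]
    rw [sum_comm, sum_congr rfl fun x hx => show ∑ a ∈ R, (if G.Adj a x then 1 else 0 : ℕ) = 4 from ?_, sum_const,
      h.mu v u hvu, smul_eq_mul]
    obtain ⟨xv, xu⟩ := mem_com.1 hx
    have e : R.filter (fun a => G.Adj a x) = ((C ∩ nb G x).erase v).erase u := by
      ext a; simp [hR, mem_nb, SimpleGraph.adj_comm (G := G) a x, and_assoc]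
    rw [← card_filter, e, card_erase_of_mem (mem_erase.2 ⟨hne.symm, mem_inter.2 ⟨hu, mem_nb.2 xu.symm⟩⟩),
      card_erase_of_mem (mem_inter.2 ⟨hv, mem_nb.2 xv.symm⟩),
      coclique_six h hC hco fun hx' => hco v hv x hx' xv]
  obtain ⟨Z, hZ⟩ : ∃ Z, Z = R.filter fun z => (com G v u ∩ nb G z).card = 0 := ⟨_, rfl⟩
  have hZs : Z ⊆ thirds G v u := fun z hz => by
    rw [hZ, mem_filter, hR, mem_erase, mem_erase, card_eq_zero] at hz
    exact mem_thirds.2 ⟨hvu, ⟨Ne.symm hz.1.2.1, hco v hv z hz.1.2.2⟩, ⟨Ne.symm hz.1.1, hco u hu z hz.1.2.2⟩, hz.2⟩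
  have hZ3 : Z.card ≤ 3 := (card_le_card hZs).trans (card_thirds h hvu).le
  obtain ⟨N, hN⟩ : ∃ N, N = R.filter fun z => ¬ (com G v u ∩ nb G z).card = 0 := ⟨_, rfl⟩
  have hNZ : Z.card + N.card = 19 := by rw [hZ, hN, card_filter_add_card_filter_not, hR19]
  have hpos : ∀ z ∈ N, 1 ≤ (com G v u ∩ nb G z).card := fun z hz => by
    rw [hN, mem_filter] at hz
    exact Nat.one_le_iff_ne_zero.2 hz.2
  have hge : N.card ≤ ∑ z ∈ N, (com G v u ∩ nb G z).card := by
    rw [card_eq_sum_ones]
    exact sum_le_sum hpos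
  have hNsum : ∑ z ∈ N, (com G v u ∩ nb G z).card = 16 := by
    rw [hN, sum_filter_of_ne fun z _ hz => hz, hsum]
  have hZe : Z = thirds G v u := eq_of_subset_of_card_le hZs (by rw [card_thirds h hvu]; omega)
  have hall : ∀ z ∈ N, 1 = (com G v u ∩ nb G z).card :=
    (sum_eq_sum_iff_of_le hpos).1 (by
      rw [← card_eq_sum_ones, hNsum]; omega)
  refine ⟨fun w hw => ?_, fun z hz hzl => ?_⟩
  · rcases mem_line.1 hw with rfl | rfl | t
    · exact hv
    · exact hu
    · have := (mem_filter.1 (hZ ▸ hZe.symm ▸ mem_thirds.2 t : w ∈ R.filter _)).1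
      rw [hR, mem_erase, mem_erase] at this
      exact this.2.2
  · have hzv : z ≠ v := fun e => hzl (by rw [e]; exact left_mem v u)
    have hzu : z ≠ u := fun e => hzl (by rw [e]; exact right_mem v u)
    have hzN : z ∈ N := by
      rw [hN, mem_filter, hR, mem_erase, mem_erase]
      refine ⟨⟨hzu, hzv, hz⟩, fun e => hzl (mem_line.2 (Or.inr (Or.inr (mem_thirds.1 (hZe ▸ ?_)))))⟩
      rw [hZ, mem_filter, hR, mem_erase, mem_erase]
      exact ⟨⟨hzu, hzv, hz⟩, e⟩
    exact ⟨hvu, ⟨hzv.symm, hco v hv z hz⟩, ⟨hzu.symm, hco u hu z hz⟩, (hall z hzN).symm⟩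

end Cfsg.Agent.Spor.Srg77
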